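import Mathlib
import Groth.Prelude.Def_SGA7a

/-!
# Fields whose absolute Galois group is inertia at a place over a discrete valuation ring
-/

set_option autoImplicit false
set_option linter.style.haveILetI false
universe u

open IsLocalRing IntermediateField

namespace Groth.Agent.H23Tame

section Val

variable {F : Type u} [Field F] (W : ValuationSubring F)

/-- An `r`-th root of unity congruent to `1` is `1` when `r` is a unit. -/
theorem eq_one_of_pow_eq_one {r : ℕ} (hr : W.valuation (r : F) = 1) {z : F} (hz : z ^ r = 1)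
    (h : W.valuation (z - 1) < 1) : z = 1 := by
  by_contra hne
  have h0 : r ≠ 0 := by rintro rfl; simp at hr
  have hsum : ∑ i ∈ Finset.range r, z ^ i = 0 := by
    have := geom_sum_mul z r
    rw [hz, sub_self] at this
    exact (mul_eq_zero.mp this).resolve_right (sub_ne_zero.mpr hne)
  have hz1 : W.valuation z = 1 := (pow_eq_one_iff_of_nonneg zero_le h0).mp (by rw [← map_pow, hz, map_one])
  have h2 : W.valuation (∑ i ∈ Finset.range r, (z ^ i - 1)) < 1 := by
    refine W.valuation.map_sum_lt one_ne_zero fun i _ => ?_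
    rw [← geom_sum_mul, map_mul]
    refine mul_lt_one_of_nonneg_of_lt_one_right ?_ zero_le h
    refine W.valuation.map_sum_le fun j _ => ?_
    rw [map_pow, hz1, one_pow]
  rw [Finset.sum_sub_distrib, hsum, Finset.sum_const, Finset.card_range, nsmul_one, zero_sub,
    Valuation.map_neg, hr] at h2
  exact lt_irrefl _ h2

theorem valuation_eq_of_mul_inv {a b : F} (h : a * b = 1) (ha : a ∈ W) (hb : b ∈ W) :
    W.valuation a = 1 := by
  refine le_antisymm ((W.valuation_le_one_iff a).mpr ha) ?_
  calc (1 : W.ValueGroup) = W.valuation a * W.valuation b := by rw [← map_mul, h, map_one]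
    _ ≤ W.valuation a * 1 := by gcongr; exact (W.valuation_le_one_iff b).mpr hb
    _ = W.valuation a := mul_one _

end Val

variable {R K Ω : Type u} [CommRing R] [IsDomain R] [IsDiscreteValuationRing R] [Field K]
  [Algebra R K] [Field Ω] [Algebra K Ω] {W : ValuationSubring Ω}

theorem valuation_unit (hW : SGA7.LiesOver K R W) {u : R} (hu : IsUnit u) :
    W.valuation (algebraMap K Ω (algebraMap R K u)) = 1 := by
  obtain ⟨v, hv⟩ := hu.exists_right_inv
  exact valuation_eq_of_mul_inv W (by rw [← map_mul, ← map_mul, hv, map_one, map_one])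
    (hW.1 u) (hW.1 v)

theorem valuation_natCast (hW : SGA7.LiesOver K R W) {r : ℕ}
    (hrk : (r : IsLocalRing.ResidueField R) ≠ 0) : W.valuation (r : Ω) = 1 := by
  have hu : IsUnit (r : R) := by
    by_contra h
    exact hrk (by rw [← map_natCast (IsLocalRing.residue R), IsLocalRing.residue_eq_zero_iff]; exact h)
  simpa using valuation_unit hW hu

/-- An automorphism of the field preserving `W` is monotone for the valuation. -/
theorem valuation_map_le {σ : Ω ≃ₐ[K] Ω} (hσ : SGA7.IsInertia W σ) {a b : Ω}
    (h : W.valuation a ≤ W.valuation b) : W.valuation (σ a) ≤ W.valuation (σ b) := by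
  rcases eq_or_ne b 0 with rfl | hb
  · rw [map_zero, le_zero_iff, map_eq_zero] at h
    simp [h]
  · have h1 : a / b ∈ W := by
      rw [← W.valuation_le_one_iff, map_div₀, div_le_one₀ (zero_lt_iff.mpr (by simpa using hb))]
      exact h
    have h2 := (W.valuation_le_one_iff _).mpr (hσ _ h1).1
    rwa [map_div₀, map_div₀, div_le_one₀ (zero_lt_iff.mpr (by simpa using hb))] at h2

/-- An element of finite orbit has the valuation of its image. -/
theorem valuation_map_eq {σ : Ω ≃ₐ[K] Ω} (hσ : SGA7.IsInertia W σ) {x : Ω} {n : ℕ} (hn : 0 < n)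
    (hx : σ^[n] x = x) : W.valuation (σ x) = W.valuation x := by
  obtain ⟨m, rfl⟩ : ∃ m, n = m + 1 := ⟨n - 1, by omega⟩
  rcases le_total (W.valuation (σ x)) (W.valuation x) with h | h
  · refine le_antisymm h ?_
    have key : ∀ i : ℕ, W.valuation (σ^[i + 1] x) ≤ W.valuation (σ x) := by
      intro i
      induction i with
      | zero => exact le_refl _
      | succ i ih =>
        rw [Function.iterate_succ_apply']
        exact valuation_map_le hσ (ih.trans h)
    simpa [hx] using key m
  · refine le_antisymm ?_ h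
    have key : ∀ i : ℕ, W.valuation (σ x) ≤ W.valuation (σ^[i + 1] x) := by
      intro i
      induction i with
      | zero => exact le_refl _
      | succ i ih =>
        rw [Function.iterate_succ_apply']
        exact valuation_map_le hσ (h.trans ih)
    simpa [hx] using key m

variable [IsSepClosure K Ω]

theorem mem_range_of_pow_eq_unit (hW : SGA7.LiesOver K R W)
    (hI : ∀ σ : Ω ≃ₐ[K] Ω, SGA7.IsInertia W σ) {r : ℕ}
    (hrk : (r : IsLocalRing.ResidueField R) ≠ 0) {u : R} (hu : IsUnit u) {y : Ω}
    (hy : y ^ r = algebraMap K Ω (algebraMap R K u)) : y ∈ Set.range (algebraMap K Ω) := by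
  have hr := valuation_natCast hW hrk
  have h0 : r ≠ 0 := by rintro rfl; simp at hr
  haveI : IsGalois K Ω := IsSepClosure.isGalois
  have hy1 : W.valuation y = 1 :=
    (pow_eq_one_iff_of_nonneg zero_le h0).mp (by rw [← map_pow, hy, valuation_unit hW hu])
  have hy0 : y ≠ 0 := by rintro rfl; simp at hy1
  refine (InfiniteGalois.mem_range_algebraMap_iff_fixed y).mpr fun σ => ?_
  have h := (hI σ y ((W.valuation_le_one_iff y).mp hy1.le)).2
  have hz : σ y / y = 1 := by
    refine eq_one_of_pow_eq_one W hr ?_ ?_
    · rw [div_pow, ← map_pow, hy, AlgEquiv.commutes, div_self]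
      rw [← hy]
      exact pow_ne_zero _ hy0
    · rw [div_sub_one hy0, map_div₀, hy1, div_one]
      exact h
  exact (div_eq_one_iff_eq hy0).mp hz

theorem primitiveRoots_nonempty (hW : SGA7.LiesOver K R W)
    (hI : ∀ σ : Ω ≃ₐ[K] Ω, SGA7.IsInertia W σ) {r : ℕ}
    (hrk : (r : IsLocalRing.ResidueField R) ≠ 0) : ∃ ζ : K, IsPrimitiveRoot ζ r := by
  have hr := valuation_natCast hW hrk
  haveI : IsSepClosed Ω := IsSepClosure.sep_closed K
  haveI : NeZero (r : Ω) := ⟨fun h => by simp [h] at hr⟩
  obtain ⟨ζ, hζ⟩ := HasEnoughRootsOfUnity.exists_primitiveRoot Ω r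
  obtain ⟨ζ', rfl⟩ := mem_range_of_pow_eq_unit hW hI hrk isUnit_one (y := ζ)
    (by rw [hζ.pow_eq_one, map_one, map_one])
  exact ⟨ζ', hζ.of_map_of_injective (algebraMap K Ω).injective⟩

theorem exists_pow_eq (hW : SGA7.LiesOver K R W) {r : ℕ}
    (hrk : (r : IsLocalRing.ResidueField R) ≠ 0) (a : Ω) : ∃ y : Ω, y ^ r = a := by
  have hr := valuation_natCast hW hrk
  have h0 : r ≠ 0 := by rintro rfl; simp at hr
  haveI : IsSepClosed Ω := IsSepClosure.sep_closed K
  rcases eq_or_ne a 0 with rfl | ha
  · exact ⟨0, zero_pow h0⟩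
  haveI : NeZero (r : Ω) := ⟨fun h => by simp [h] at hr⟩
  exact IsSepClosed.exists_pow_nat_eq a r

variable [IsFractionRing R K]

/-- Valuations of elements of `K`. -/
theorem exists_valuation_eq (hW : SGA7.LiesOver K R W) {π : R} (hπ : Irreducible π) {a : K}
    (ha : a ≠ 0) : ∃ i j : ℕ, W.valuation (algebraMap K Ω a) =
      W.valuation (algebraMap K Ω (algebraMap R K π)) ^ i /
        W.valuation (algebraMap K Ω (algebraMap R K π)) ^ j := by
  obtain ⟨x, y, hy, rfl⟩ := IsFractionRing.div_surjective R a
  have hy0 : y ≠ 0 := nonZeroDivisors.ne_zero hy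
  have hx0 : x ≠ 0 := by rintro rfl; simp at ha
  obtain ⟨i, u, rfl⟩ := IsDiscreteValuationRing.eq_unit_mul_pow_irreducible hx0 hπ
  obtain ⟨j, w, rfl⟩ := IsDiscreteValuationRing.eq_unit_mul_pow_irreducible hy0 hπ
  refine ⟨i, j, ?_⟩
  simp only [map_div₀, map_mul, map_pow, valuation_unit hW u.isUnit, valuation_unit hW w.isUnit,
    one_mul]

/-- All Galois extensions of degree `r` are generated by an `r`-th root of a uniformizer. -/
theorem le_adjoin_root (hW : SGA7.LiesOver K R W) (hI : ∀ σ : Ω ≃ₐ[K] Ω, SGA7.IsInertia W σ)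
    {r : ℕ} (hrk : (r : IsLocalRing.ResidueField R) ≠ 0) {π : R} (hπ : Irreducible π) {y : Ω}
    (hy : y ^ r = algebraMap K Ω (algebraMap R K π)) (L : IntermediateField K Ω)
    (hd : Module.finrank K L = r) (hG : IsGalois K L) : L ≤ K⟮y⟯ := by
  have hr := valuation_natCast hW hrk
  have h0 : r ≠ 0 := by rintro rfl; simp at hr
  haveI : IsGalois K Ω := IsSepClosure.isGalois
  haveI : FiniteDimensional K L := FiniteDimensional.of_finrank_pos (by omega)
  have hπ0 : W.valuation (algebraMap K Ω (algebraMap R K π)) ≠ 0 := by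
    simpa using fun h => hπ.ne_zero (IsFractionRing.injective R K (by simpa using h))
  have hy0 : W.valuation y ≠ 0 := by
    intro h
    exact hπ0 (by rw [← hy, map_pow, h, zero_pow h0])
  rw [← InfiniteGalois.fixedField_fixingSubgroup K⟮y⟯]
  intro x₀ hx₀
  rw [IntermediateField.mem_fixedField_iff]
  intro σ hσ
  let τ : L ≃ₐ[K] L := σ.restrictNormal L
  have hτ : ∀ z : L, (τ z : Ω) = σ z := fun z => σ.restrictNormal_commutes L z
  suffices h1 : τ = 1 by
    have h2 := hτ ⟨x₀, hx₀⟩
    rw [h1, AlgEquiv.one_apply] at h2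
    exact h2.symm
  have hσy : σ y = y := (mem_fixingSubgroup_iff (M := Ω ≃ₐ[K] Ω)).mp hσ y (mem_adjoin_simple_self K y)
  have hval : ∀ (g : L ≃ₐ[K] L) (z : L), W.valuation (g z : Ω) = W.valuation (z : Ω) := by
    intro g z
    have hg : ∀ w : L, (g.liftNormal Ω) (w : Ω) = (g w : Ω) := g.liftNormal_commutes Ω
    have hit : ∀ n : ℕ, (g.liftNormal Ω)^[n] (z : Ω) = (((g ^ n : L ≃ₐ[K] L) z : L) : Ω) := by
      intro n
      induction n with
      | zero => rfl
      | succ n ih => rw [Function.iterate_succ_apply', ih, hg, pow_succ', AlgEquiv.mul_apply]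
    rw [← hg]
    refine valuation_map_eq (hI _) (n := r) (Nat.pos_of_ne_zero h0) ?_
    have : g ^ r = 1 := by
      rw [← hd, ← IsGalois.card_aut_eq_finrank]
      exact pow_card_eq_one'
    rw [hit, this, AlgEquiv.one_apply]
  have hpair : ∀ z : L, z ≠ 0 →
      W.valuation (σ (z : Ω) - z) < W.valuation (z : Ω) := by
    intro z hz
    have hN : algebraMap K Ω (Algebra.norm K z) = ∏ g : L ≃ₐ[K] L, (g z : Ω) := by
      have h := congrArg (algebraMap L Ω) (Algebra.norm_eq_prod_automorphisms K z)
      rw [← IsScalarTower.algebraMap_apply, map_prod] at h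
      exact h
    have hN0 : Algebra.norm K z ≠ 0 := Algebra.norm_ne_zero_iff.mpr hz
    obtain ⟨i, j, hij⟩ := exists_valuation_eq (Ω := Ω) hW hπ hN0
    rw [hN, map_prod, Finset.prod_congr rfl (fun g _ => hval g z), Finset.prod_const,
      Finset.card_univ, ← Nat.card_eq_fintype_card, IsGalois.card_aut_eq_finrank, hd, ← hy, map_pow,
      ← pow_mul, ← pow_mul, mul_comm r i, mul_comm r j, pow_mul, pow_mul, ← div_pow] at hij
    set c : Ω := y ^ i / y ^ j with hc
    have hc1 : W.valuation (z : Ω) = W.valuation c := by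
      rw [hc, map_div₀, map_pow, map_pow]
      exact (pow_left_inj₀ zero_le zero_le h0).mp hij
    have hzero : W.valuation (z : Ω) ≠ 0 := by simpa using hz
    have hc0 : c ≠ 0 := by
      intro h
      rw [h, map_zero] at hc1
      exact hzero hc1
    have hw : W.valuation ((z : Ω) / c) = 1 := by rw [map_div₀, ← hc1, div_self hzero]
    have hlt := (hI σ _ ((W.valuation_le_one_iff _).mp hw.le)).2
    have hσc : σ c = c := by rw [hc, map_div₀, map_pow, map_pow, hσy]
    have e : σ (z : Ω) - z = (σ ((z : Ω) / c) - (z : Ω) / c) * c := by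
      rw [map_div₀, hσc, sub_mul, div_mul_cancel₀ _ hc0, div_mul_cancel₀ _ hc0]
    rw [e, map_mul, hc1]
    exact mul_lt_of_lt_one_left (zero_lt_iff.mpr (by simpa using hc0)) hlt
  have hr' : τ ^ r = 1 := by
    rw [← hd, ← IsGalois.card_aut_eq_finrank]
    exact pow_card_eq_one'
  obtain ⟨ζ, hζ⟩ := primitiveRoots_nonempty hW hI hrk
  let f : Module.End K L := τ.toLinearMap
  by_contra hne
  have hf : f ^ r = 1 := by
    refine LinearMap.ext fun z => ?_
    have hit : ∀ n : ℕ, (f ^ n) z = (τ ^ n) z := by
      intro n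
      induction n with
      | zero => rfl
      | succ n ih => rw [pow_succ', Module.End.mul_apply, ih, pow_succ', AlgEquiv.mul_apply]; rfl
    rw [hit, hr']
    rfl
  have hdvd : minpoly K f ∣ Polynomial.X ^ r - Polynomial.C 1 := minpoly.dvd K f (by simp [hf])
  have hsplit : (minpoly K f).Splits :=
    (Polynomial.Splits.of_dvd (X_pow_sub_C_splits_of_isPrimitiveRoot hζ (one_pow r))
      (Polynomial.X_pow_sub_C_ne_zero (Nat.pos_of_ne_zero h0) 1) hdvd)
  have hsep : (minpoly K f).Separable := by
    have : (r : K) ≠ 0 := fun h => by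
      have := congrArg (algebraMap K Ω) h
      rw [map_natCast, map_zero] at this
      simp [this] at hr
    exact (Polynomial.separable_X_pow_sub_C (1 : K) this one_ne_zero).of_dvd hdvd
  have hex : ∃ μ : K, μ ≠ 1 ∧ (minpoly K f).IsRoot μ := by
    by_contra hcon
    push Not at hcon
    have hone : minpoly K f = Polynomial.X - Polynomial.C 1 := by
      have hm := minpoly.monic (Algebra.IsIntegral.isIntegral (R := K) f)
      have heq := hsplit.eq_prod_roots_of_monic hm
      have hnd := Polynomial.nodup_roots hsep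
      have hall : ∀ μ ∈ (minpoly K f).roots, μ = 1 := fun μ hμ => by
        by_contra h1
        exact hcon μ h1 ((Polynomial.mem_roots'.mp hμ).2)
      have hpos : 0 < (minpoly K f).roots.card := by
        rw [← hsplit.natDegree_eq_card_roots]
        exact minpoly.natDegree_pos (Algebra.IsIntegral.isIntegral (R := K) f)
      have hrep := Multiset.eq_replicate_card.mpr hall
      have hle : (minpoly K f).roots.card ≤ 1 := by
        classical
        have := hnd
        rw [hrep, Multiset.nodup_iff_count_le_one] at this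
        simpa using this 1
      rw [heq, hrep, show (minpoly K f).roots.card = 1 by omega]
      simp
    have := minpoly.aeval K f
    rw [hone, map_sub, Polynomial.aeval_X, Polynomial.aeval_C, map_one, sub_eq_zero] at this
    exact hne (AlgEquiv.ext fun z => LinearMap.congr_fun this z)
  obtain ⟨μ, hμ1, hμ⟩ := hex
  obtain ⟨z, hz, hz0⟩ := (Module.End.hasEigenvalue_of_isRoot hμ).exists_hasEigenvector
  rw [Module.End.mem_eigenspace_iff] at hz
  have hμr : μ ^ r = 1 := by
    have := Polynomial.IsRoot.dvd hμ hdvd
    simpa [sub_eq_zero] using this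
  have hσz : σ (z : Ω) = algebraMap K Ω μ * z := by
    rw [← hτ, show τ z = μ • z from hz]
    exact Algebra.smul_def μ (z : Ω)
  apply hμ1
  apply (algebraMap K Ω).injective
  rw [map_one]
  refine eq_one_of_pow_eq_one W hr (by rw [← map_pow, hμr, map_one]) ?_
  have h3 := hpair z hz0
  rw [hσz, ← sub_one_mul, map_mul] at h3
  exact (mul_lt_iff_lt_one_left (zero_lt_iff.mpr (by simpa using hz0))).mp h3

section Adjoin

omit [IsSepClosure K Ω]

theorem minpoly_root {π : R} (hπ : Irreducible π) {r : ℕ} (hr : r ≠ 0) {y : Ω}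
    (hy : y ^ r = algebraMap K Ω (algebraMap R K π)) :
    minpoly K y = Polynomial.X ^ r - Polynomial.C (algebraMap R K π) := by
  have hm : (Polynomial.X ^ r - Polynomial.C π : Polynomial R).Monic :=
    Polynomial.monic_X_pow_sub_C π hr
  have hirr : Irreducible (Polynomial.X ^ r - Polynomial.C π : Polynomial R) := by
    refine Polynomial.IsEisensteinAt.irreducible (𝓟 := maximalIdeal R) ⟨?_, fun {i} hi => ?_, ?_⟩
      (maximalIdeal.isMaximal R).isPrime hm.isPrimitive
      (by rw [Polynomial.natDegree_X_pow_sub_C]; omega)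
    · rw [hm.leadingCoeff]
      exact fun h => (maximalIdeal.isMaximal R).ne_top ((Ideal.eq_top_iff_one _).mpr h)
    · rw [Polynomial.natDegree_X_pow_sub_C] at hi
      rw [hπ.maximalIdeal_eq, Polynomial.coeff_sub, Polynomial.coeff_X_pow, if_neg hi.ne, zero_sub,
        Polynomial.coeff_C]
      split_ifs
      · exact neg_mem (Ideal.mem_span_singleton_self π)
      · rw [neg_zero]; exact zero_mem _
    · rw [hπ.maximalIdeal_eq, Polynomial.coeff_sub, Polynomial.coeff_X_pow, if_neg hr.symm, zero_sub,
        Polynomial.coeff_C_zero, Ideal.span_singleton_pow, neg_mem_iff, Ideal.mem_span_singleton]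
      intro h
      have h2 : π ^ 2 ∣ π ^ 1 := by rwa [pow_one]
      exact absurd ((pow_dvd_pow_iff hπ.ne_zero hπ.not_isUnit).mp h2) (by omega)
  have hK := (hm.irreducible_iff_irreducible_map_fraction_map (K := K)).mp hirr
  rw [Polynomial.map_sub, Polynomial.map_pow, Polynomial.map_X, Polynomial.map_C] at hK
  exact (minpoly.eq_of_irreducible_of_monic hK (by simp [hy]) (Polynomial.monic_X_pow_sub_C _ hr)).symm

theorem finrank_adjoin_root {π : R} (hπ : Irreducible π) {r : ℕ} (hr : r ≠ 0) {y : Ω}
    (hy : y ^ r = algebraMap K Ω (algebraMap R K π)) : Module.finrank K K⟮y⟯ = r := by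
  have hi : IsIntegral K y := by
    refine IsIntegral.of_pow (Nat.pos_of_ne_zero hr) ?_
    rw [hy]
    exact isIntegral_algebraMap
  rw [IntermediateField.adjoin.finrank hi, minpoly_root hπ hr hy,
    Polynomial.natDegree_X_pow_sub_C]

end Adjoin

/-- A root of a uniformizer generates a totally ramified extension. -/
theorem ramificationIdx_eq {L : Type u} [Field L] [Algebra K L] [FiniteDimensional K L]
    [Algebra.IsSeparable K L] [Algebra R L] [IsScalarTower R K L] {π : R} (hπ : Irreducible π)
    {r : ℕ} (hr : r ≠ 0) (hd : Module.finrank K L = r) {y : L}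
    (hy : y ^ r = algebraMap R L π) (P : Ideal (integralClosure R L)) (hP : P.IsMaximal) :
    P.ramificationIdx R = r := by
  haveI : IsIntegralClosure (integralClosure R L) R L := integralClosure.isIntegralClosure R L
  haveI : Module.Finite R (integralClosure R L) := IsIntegralClosure.finite R K L (integralClosure R L)
  haveI : IsDedekindDomain (integralClosure R L) :=
    IsIntegralClosure.isDedekindDomain R K L (integralClosure R L)
  have hinj : Function.Injective (algebraMap R L) := by
    rw [IsScalarTower.algebraMap_eq R K L]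
    exact (algebraMap K L).injective.comp (IsFractionRing.injective R K)
  haveI : FaithfulSMul R L := (faithfulSMul_iff_algebraMap_injective R L).mpr hinj
  haveI : Module.IsTorsionFree R L := inferInstance
  have hinjB : Function.Injective (algebraMap R (integralClosure R L)) := fun a b h =>
    hinj (congrArg Subtype.val h)
  haveI : FaithfulSMul R (integralClosure R L) :=
    (faithfulSMul_iff_algebraMap_injective R _).mpr hinjB
  haveI : Module.IsTorsionFree R (integralClosure R L) := inferInstance
  haveI : Module.Free R (integralClosure R L) := Module.free_of_finite_type_torsion_free'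
  have hrank : Module.finrank R (integralClosure R L) = r := by
    rw [IsIntegralClosure.rank R K L (integralClosure R L), hd]
  let yB : integralClosure R L := ⟨y, IsIntegral.of_pow (Nat.pos_of_ne_zero hr) (by
    rw [hy]; exact isIntegral_algebraMap)⟩
  have hyB : yB ^ r = algebraMap R (integralClosure R L) π := Subtype.ext hy
  haveI : Algebra.IsIntegral R (integralClosure R L) := Algebra.IsIntegral.of_finite R _
  have hover : P.under R = maximalIdeal R :=
    eq_maximalIdeal (Ideal.isMaximal_comap_of_isIntegral_of_isMaximal P)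
  haveI : P.LiesOver (maximalIdeal R) := ⟨hover.symm⟩
  have hmap : (maximalIdeal R).map (algebraMap R (integralClosure R L)) = Ideal.span {yB} ^ r := by
    rw [hπ.maximalIdeal_eq, Ideal.map_span, Set.image_singleton, ← hyB, Ideal.span_singleton_pow]
  have hm0 : (maximalIdeal R).map (algebraMap R (integralClosure R L)) ≠ ⊥ :=
    Ideal.map_ne_bot_of_ne_bot (IsDiscreteValuationRing.not_a_field R)
  haveI := hP.isPrime
  classical
  obtain ⟨c, hc⟩ : r ∣ P.ramificationIdx R := by
    rw [Ideal.IsDedekindDomain.ramificationIdx_eq_normalizedFactors_count (maximalIdeal R) P hm0,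
      hmap, UniqueFactorizationMonoid.normalizedFactors_pow, Multiset.count_nsmul]
    exact dvd_mul_right _ _
  haveI : Fintype ((maximalIdeal R).primesOver (integralClosure R L)) :=
    @Fintype.ofFinite _ (IsDedekindDomain.primesOver_finite (maximalIdeal R) _).to_subtype
  have hsum := Ideal.sum_ramification_inertia_eq_finrank (maximalIdeal R) (integralClosure R L)
  rw [hrank] at hsum
  have hle : P.ramificationIdx R * P.inertiaDeg R ≤ r := by
    rw [← hsum]
    exact Finset.single_le_sum
      (f := fun q : (maximalIdeal R).primesOver (integralClosure R L) =>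
        q.1.ramificationIdx R * q.1.inertiaDeg R)
      (fun _ _ => Nat.zero_le _) (Finset.mem_univ ⟨P, ⟨hP.isPrime, inferInstance⟩⟩)
  have he : 0 < P.ramificationIdx R := P.ramificationIdx_pos R
  have hf : 0 < P.inertiaDeg R := P.inertiaDeg_pos R
  have h1 : P.ramificationIdx R ≤ r := le_trans (Nat.le_mul_of_pos_right _ hf) hle
  have h2 : r ≤ P.ramificationIdx R := Nat.le_of_dvd he ⟨c, hc⟩
  omega

end Groth.Agent.H23Tame
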